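import Groth.Agent.RegLoc6.RegEtale
import Groth.Agent.RegLoc6.Basic
import Groth.Agent.SmoothDim.Basic
import Mathlib.RingTheory.Unramified.LocalStructure
import Mathlib.RingTheory.Etale.Kaehler
import Mathlib.RingTheory.Kaehler.Polynomial
import Mathlib.RingTheory.KrullDimension.NonZeroDivisors

/-! Etaleness over a polynomial ring over a field from differentials and dimension. -/

set_option autoImplicit false
universe u

namespace Groth.Agent.EtaleCrit

open TensorProduct

variable (k : Type u) [Field k] (n : ℕ) (A : Type u) [CommRing A] [Algebra k A]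
  [Algebra (MvPolynomial (Fin n) k) A] [IsScalarTower k (MvPolynomial (Fin n) k) A]

local notation "P" => MvPolynomial (Fin n) k

/-- Spanning differentials make the map from the polynomial ring unramified. -/
theorem formallyUnramified_of_span (T : Type u) [CommRing T] [Algebra k T] [Algebra P T]
    [IsScalarTower k P T]
    (h : Submodule.span T (Set.range fun i : Fin n =>
      KaehlerDifferential.D k T (algebraMap P T (MvPolynomial.X i))) = ⊤) :
    Algebra.FormallyUnramified P T := by
  constructor
  refine subsingleton_of_forall_eq 0 fun ω => ?_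
  obtain ⟨η, rfl⟩ := KaehlerDifferential.map_surjective k P T ω
  have hη : η ∈ Submodule.span T (Set.range fun i : Fin n =>
      KaehlerDifferential.D k T (algebraMap P T (MvPolynomial.X i))) := h ▸ Submodule.mem_top
  induction hη using Submodule.span_induction with
  | mem y hy =>
    obtain ⟨i, rfl⟩ := hy
    rw [KaehlerDifferential.map_D, Algebra.algebraMap_self_apply, Derivation.map_algebraMap]
  | zero => simp
  | add x y _ _ hx hy => simp [hx, hy]
  | smul a x _ hx => simp [hx]

/-- Over a formally etale algebra the coordinates give spanning differentials. -/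
theorem span_of_formallyEtale (T : Type u) [CommRing T] [Algebra k T] [Algebra P T]
    [IsScalarTower k P T] [Algebra.FormallyEtale P T] :
    Submodule.span T (Set.range fun i : Fin n =>
      KaehlerDifferential.D k T (algebraMap P T (MvPolynomial.X i))) = ⊤ := by
  let b := (Algebra.TensorProduct.basis T (KaehlerDifferential.mvPolynomialBasis k (Fin n))).map
    (KaehlerDifferential.tensorKaehlerEquivOfFormallyEtale k P T)
  have hb : (fun i : Fin n => KaehlerDifferential.D k T (algebraMap P T (MvPolynomial.X i))) = ⇑b := by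
    funext i
    simp [b, KaehlerDifferential.mapBaseChange_tmul]
  rw [hb, b.span_eq]

/-- An unramified point on an `n`-dimensional component is an etale point. -/
theorem isEtaleAt_of_component [Algebra.FiniteType P A] (p q : Ideal A) [p.IsPrime] [q.IsPrime]
    (hqp : q ≤ p) (hq : (n : WithBot ℕ∞) ≤ ringKrullDim (A ⧸ q)) [Algebra.IsUnramifiedAt P p] :
    Algebra.IsEtaleAt P p := by
  obtain ⟨f, hf, E, φ, hφ⟩ :=
    Algebra.IsUnramifiedAt.exists_hasStandardEtaleSurjectionOn (R := P) p
  haveI : IsNoetherianRing E.Ring := Algebra.FiniteType.isNoetherianRing P E.Ring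
  let Af := Localization.AtPrime p
  have hu : IsUnit (algebraMap A Af f) := IsLocalization.map_units Af (⟨f, hf⟩ : p.primeCompl)
  let ψ : Localization.Away f →ₐ[P] Af :=
    IsLocalization.liftAlgHom (M := Submonoid.powers f) (f := IsScalarTower.toAlgHom P A Af)
      (fun y => by obtain ⟨m, hm⟩ := y.2; rw [← hm, map_pow]; exact hu.pow m)
  have hψ : ∀ a : A, ψ (algebraMap A (Localization.Away f) a) = algebraMap A Af a :=
    fun a => IsLocalization.lift_eq _ a
  let χ : E.Ring →ₐ[P] Af := ψ.comp φ
  have hχ : ∀ a : A, ∃ e, χ e = algebraMap A Af a := fun a => by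
    obtain ⟨e, he⟩ := hφ (algebraMap A (Localization.Away f) a)
    exact ⟨e, by show ψ (φ e) = _; rw [he, hψ]⟩
  let M : Ideal E.Ring := (IsLocalRing.maximalIdeal Af).comap χ
  haveI : M.IsPrime := Ideal.comap_isPrime _ _
  let L := Localization.AtPrime M
  let Λ : L →ₐ[P] Af := IsLocalization.liftAlgHom (M := M.primeCompl) (f := χ) fun y =>
    not_not.1 fun h => y.2 h
  have hΛ : ∀ e : E.Ring, Λ (algebraMap E.Ring L e) = χ e := fun e => IsLocalization.lift_eq _ e
  have hsurj : Function.Surjective Λ := by
    intro z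
    obtain ⟨a, s, rfl⟩ := IsLocalization.exists_mk'_eq p.primeCompl z
    obtain ⟨e, he⟩ := hχ a
    obtain ⟨t, ht⟩ := hχ s
    have hus : IsUnit (χ t) := by rw [ht]; exact IsLocalization.map_units Af s
    refine ⟨IsLocalization.mk' L e (⟨t, fun h => h hus⟩ : M.primeCompl), ?_⟩
    rw [IsLocalization.eq_mk'_iff_mul_eq, ← he, ← ht, ← hΛ, ← hΛ, ← map_mul,
      IsLocalization.mk'_spec]
  haveI : IsRegularLocalRing L :=
    RegLoc6.regular_of_etale (A := P) M (IsRegularRing.isRegularLocalRing_localization _)
  haveI : IsDomain L := RegLoc6.isDomain_of_isRegularLocalRing L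
  -- the minimal prime of `E` below `M` cut out by the component
  let qA : Ideal Af := q.map (algebraMap A Af)
  have hd : Disjoint (p.primeCompl : Set A) q := Set.disjoint_left.2 fun x hx hxq => hx (hqp hxq)
  haveI : qA.IsPrime := IsLocalization.isPrime_of_isPrime_disjoint p.primeCompl _ _ ‹_› hd
  have hqA : qA.comap (algebraMap A Af) = q :=
    IsLocalization.comap_map_of_isPrime_disjoint p.primeCompl _ ‹_› hd
  let N : Ideal E.Ring := qA.comap χ
  haveI : N.IsPrime := Ideal.comap_isPrime _ _
  have hqf : f ∉ q := fun h => hf (hqp h)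
  -- `N` has quotient of dimension at least `n`
  have hN : (n : WithBot ℕ∞) ≤ ringKrullDim (E.Ring ⧸ N) := by
    let g : E.Ring →+* Af ⧸ qA := (Ideal.Quotient.mk qA).comp χ.toRingHom
    let i : A ⧸ q →+* Af ⧸ qA := Ideal.quotientMap qA (algebraMap A Af) hqA.ge
    have hi : Function.Injective i := Ideal.quotientMap_injective' hqA.le
    have hgi : i.range ≤ g.range := by
      rintro _ ⟨a, rfl⟩
      obtain ⟨a, rfl⟩ := Ideal.Quotient.mk_surjective a
      obtain ⟨e, he⟩ := hχ a
      exact ⟨e, congrArg (Ideal.Quotient.mk qA) he⟩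
    haveI : Algebra.FiniteType k A := Algebra.FiniteType.trans (S := P) inferInstance inferInstance
    letI : Algebra k E.Ring := ((algebraMap P E.Ring).comp (algebraMap k P)).toAlgebra
    haveI : IsScalarTower k P E.Ring := .of_algebraMap_eq' rfl
    haveI : Algebra.FiniteType k E.Ring := Algebra.FiniteType.trans (S := P) inferInstance inferInstance
    let jA : A ⧸ q →ₐ[k] Af ⧸ qA := Ideal.quotientMapₐ qA (IsScalarTower.toAlgHom k A Af) hqA.ge
    let jE : E.Ring ⧸ N →ₐ[k] Af ⧸ qA := Ideal.quotientMapₐ qA (χ.restrictScalars k) le_rfl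
    have hjE : Function.Injective jE := Ideal.quotientMap_injective' (H := le_rfl) le_rfl
    let jr : A ⧸ q →ₐ[k] jE.range := jA.codRestrict jE.range fun x => by
      obtain ⟨a, rfl⟩ := Ideal.Quotient.mk_surjective x
      obtain ⟨e, he⟩ := hχ a
      exact ⟨Ideal.Quotient.mk N e, congrArg (Ideal.Quotient.mk qA) he⟩
    let j : A ⧸ q →ₐ[k] E.Ring ⧸ N := (AlgEquiv.ofInjective jE hjE).symm.toAlgHom.comp jr
    have hjr : Function.Injective jr := fun x y h => hi (congrArg Subtype.val h)
    have hj : Function.Injective j := (AlgEquiv.ofInjective jE hjE).symm.injective.comp hjr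
    obtain ⟨a, ha, hat⟩ := VarDim.exists_dim_eq_trdeg k (A ⧸ q)
    obtain ⟨b, hb, hbt⟩ := VarDim.exists_dim_eq_trdeg k (E.Ring ⧸ N)
    have hab : a ≤ b := by
      have := trdeg_le_of_injective j hj
      rw [hat, hbt] at this
      exact_mod_cast this
    rw [ha] at hq
    rw [hb]
    exact hq.trans (by exact_mod_cast hab)
  have hdimE : ringKrullDim E.Ring ≤ n := by
    refine le_trans (Order.krullDim_le_of_strictMono (PrimeSpectrum.comap (algebraMap P E.Ring)) ?_) ?_
    · intro x y hxy
      refine lt_of_le_of_ne (Ideal.comap_mono hxy.le) fun h => hxy.ne (PrimeSpectrum.ext ?_)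
      exact Algebra.QuasiFinite.eq_of_le_of_under_eq (R := P) _ _ hxy.le
        (congrArg PrimeSpectrum.asIdeal h)
    · show ringKrullDim P ≤ n
      rw [MvPolynomial.ringKrullDim_of_isNoetherianRing, ringKrullDim_eq_zero_of_field]; simp
  -- hence `N` is minimal, so `Λ` is injective
  have hmin : ∀ N' : Ideal E.Ring, N'.IsPrime → N' ≤ N → N' = N := by
    intro N' hN' hle
    by_contra hne
    obtain ⟨l, hl⟩ := Order.le_krullDim_iff.1 (ringKrullDim_quotient (R := E.Ring) N ▸ hN :
      (n : WithBot ℕ∞) ≤ Order.krullDim (PrimeSpectrum.zeroLocus (N : Set E.Ring)))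
    let l' : LTSeries (PrimeSpectrum E.Ring) := l.map Subtype.val fun _ _ h => h
    have hlt : (⟨N', hN'⟩ : PrimeSpectrum E.Ring) < l'.head :=
      lt_of_lt_of_le (b := ⟨N, inferInstance⟩)
        (lt_of_le_of_ne hle fun h => hne (congrArg PrimeSpectrum.asIdeal h)) (l.head.2)
    have h1 : ((l'.cons _ hlt).length : WithBot ℕ∞) ≤ ringKrullDim E.Ring :=
      Order.LTSeries.length_le_krullDim _
    have h2 := h1.trans hdimE
    have h3 : (l'.cons _ hlt).length ≤ n := by exact_mod_cast h2
    simp [l', LTSeries.map, hl] at h3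
  have hinj : Function.Injective Λ := by
    let K : Ideal L := qA.comap Λ
    haveI : K.IsPrime := Ideal.comap_isPrime _ _
    have hK : K = ⊥ := by
      have h0 : (⊥ : Ideal L).comap (algebraMap E.Ring L) = N := hmin _ (Ideal.comap_isPrime _ _) (by
        intro e he
        show χ e ∈ qA
        rw [← hΛ, show algebraMap E.Ring L e = 0 from he, map_zero]
        exact zero_mem _)
      have h1 : K.comap (algebraMap E.Ring L) = N := by
        ext e
        show Λ (algebraMap E.Ring L e) ∈ qA ↔ χ e ∈ qA
        rw [hΛ]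
      refine (IsLocalization.map_comap M.primeCompl L K).symm.trans ?_
      rw [Ideal.under_def, h1, ← h0]
      exact IsLocalization.map_comap M.primeCompl L ⊥
    rw [injective_iff_map_eq_zero]
    intro x hx
    have : x ∈ K := by show Λ x ∈ qA; rw [hx]; exact zero_mem _
    rwa [hK, Ideal.mem_bot] at this
  haveI : Algebra.FormallyEtale E.Ring L :=
    Algebra.FormallyEtale.of_isLocalization M.primeCompl
  haveI : Algebra.FormallyEtale P L := Algebra.FormallyEtale.comp P E.Ring L
  exact Algebra.FormallyEtale.of_equiv (AlgEquiv.ofBijective Λ ⟨hinj, hsurj⟩)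

end Groth.Agent.EtaleCrit
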